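import Cfsg.Agent.PermutationGroups.MultFree
import Cfsg.Agent.H672.Ext
import Cfsg.Agent.OddOrderCharacters.IndRes
import Cfsg.Agent.S0190
import Cfsg.Agent.Characters.FixedPointFree
import Cfsg.Agent.FastGrp
import Cfsg.Agent.Prune
set_option linter.all false
prune_inst 0x7f00000000000000000000000000000000000000000000000000000000000000000000000000000000000000000000000000000000000000000000000000000000000000000000000000000000000000003fffffffffffffffffffffffffffbeffbdffffffff
open scoped Cfsg.Agent.FastGrp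

/-!
# Constituents of transitive permutation characters (helper845)

* `charDegree_lt` : a nonprincipal constituent has degree `< |Ω|`;
* `card_le` : if all nonprincipal constituents have degree `≤ d`, then `|Ω| ≤ 1 + d (r - 1)`, `r` the rank;
* `over_stabilizer` : a constituent of the permutation character lies over the principal character of the stabilizer;
* `eq_one_of_over` : if it lies over the principal character of a normal transitive subgroup, it is principal.
-/

set_option autoImplicit false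
set_option linter.unusedSectionVars false
set_option linter.style.haveILetI false

namespace Cfsg.Agent.H845.FD.Perm

open Cfsg Cfsg.Agent.H672 Cfsg.Agent.PermutationGroups Cfsg.Agent.Characters.Core
open scoped ComplexConjugate

universe u v w

section
variable {G : Type u} [Group G] [Fintype G] {Ω : Type v} [Fintype Ω] [MulAction G Ω] [MulAction.IsPretransitive G Ω]

/-- The decomposition with natural numbers. -/
theorem exists_mult (a : Ω) : ∃ m : IrrCharacter G →₀ ℕ,
    (∀ ψ : IrrCharacter G,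
      classInner (fun g : G => (Nat.card (MulAction.fixedBy Ω g) : ℂ)) (ψ : G → ℂ) = m ψ) ∧
    m ⟨_, MultFree.isIrr_one⟩ = 1 ∧
    ∑ ψ ∈ m.support, m ψ ^ 2 =
      Nat.card (MulAction.orbitRel.Quotient (MulAction.stabilizer G a) Ω) ∧
    Nat.card Ω = ∑ ψ ∈ m.support, m ψ * charDegree (ψ : G → ℂ) := by
  obtain ⟨m, h1, h2, h3, h4⟩ := MultFree.exists_decomp (G := G) a
  refine ⟨m, h1, h2, h3, ?_⟩
  have h5 : ∑ ψ ∈ m.support, (m ψ : ℂ) * (ψ : G → ℂ) 1 = ((∑ ψ ∈ m.support, m ψ * charDegree (ψ : G → ℂ) : ℕ) : ℂ) := by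
    push_cast
    exact Finset.sum_congr rfl fun ψ _ => by rw [coe_charDegree ψ.2]
  rw [h5] at h4
  exact_mod_cast h4

theorem charDegree_one' : charDegree (fun _ => 1 : G → ℂ) = 1 := charDegree_of_eq (by norm_num)

theorem charDegree_lt (a : Ω) {χ : G → ℂ} (hχ : IsIrrCharacter G χ) (h1 : χ ≠ fun _ => 1)
    (h : classInner (fun g : G => (Nat.card (MulAction.fixedBy Ω g) : ℂ)) χ ≠ 0) : charDegree χ < Nat.card Ω := by
  classical
  obtain ⟨m, hm, hm1, -, hc⟩ := exists_mult (G := G) a
  rw [hc]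
  have hχm : m ⟨χ, hχ⟩ ≠ 0 := by
    intro h0
    apply h
    rw [hm ⟨χ, hχ⟩, h0, Nat.cast_zero]
  have hsub : ({⟨_, MultFree.isIrr_one⟩, ⟨χ, hχ⟩} : Finset (IrrCharacter G)) ⊆ m.support := by
    intro ψ hψ
    rw [Finset.mem_insert, Finset.mem_singleton] at hψ
    rw [Finsupp.mem_support_iff]
    rcases hψ with rfl | rfl
    · rw [hm1]; exact one_ne_zero
    · exact hχm
  have hne : (⟨_, MultFree.isIrr_one⟩ : IrrCharacter G) ≠ ⟨χ, hχ⟩ := fun h2 => h1 (congrArg Subtype.val h2).symm
  have h2 := Finset.sum_le_sum_of_subset (f := fun ψ : IrrCharacter G => m ψ * charDegree (ψ : G → ℂ)) hsub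
  rw [Finset.sum_pair hne, hm1, charDegree_one'] at h2
  have h3 : charDegree χ ≤ m ⟨χ, hχ⟩ * charDegree χ := Nat.le_mul_of_pos_left _ (Nat.pos_of_ne_zero hχm)
  refine lt_of_lt_of_le ?_ h2
  show charDegree χ < 1 * 1 + m ⟨χ, hχ⟩ * charDegree χ
  omega

theorem card_le (a : Ω) (d : ℕ) (hd : ∀ χ : G → ℂ, IsIrrCharacter G χ → χ ≠ (fun _ => 1) →
    classInner (fun g : G => (Nat.card (MulAction.fixedBy Ω g) : ℂ)) χ ≠ 0 → charDegree χ ≤ d) :
    Nat.card Ω ≤ 1 + d * (Nat.card (MulAction.orbitRel.Quotient (MulAction.stabilizer G a) Ω) - 1) := by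
  classical
  obtain ⟨m, hm, hm1, hr, hc⟩ := exists_mult (G := G) a
  have h1 : (⟨_, MultFree.isIrr_one⟩ : IrrCharacter G) ∈ m.support := by
    rw [Finsupp.mem_support_iff, hm1]; exact one_ne_zero
  rw [← hr, hc, ← Finset.add_sum_erase _ _ h1, ← Finset.add_sum_erase m.support (fun ψ => m ψ ^ 2) h1, hm1,
    charDegree_one', one_pow, mul_one, Nat.add_sub_cancel_left]
  refine Nat.add_le_add_left ?_ 1
  rw [Finset.mul_sum]
  refine Finset.sum_le_sum fun ψ hψ => ?_
  rw [Finset.mem_erase, Finsupp.mem_support_iff] at hψ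
  have h2 : charDegree (ψ : G → ℂ) ≤ d := by
    refine hd ψ ψ.2 (fun h => hψ.1 (Subtype.ext h)) ?_
    rw [hm]
    exact Nat.cast_ne_zero.2 hψ.2
  have h3 : m ψ ≤ m ψ ^ 2 := by
    rw [sq]; exact Nat.le_mul_self _
  calc m ψ * charDegree (ψ : G → ℂ) ≤ m ψ ^ 2 * d := Nat.mul_le_mul h3 h2
    _ = d * m ψ ^ 2 := mul_comm _ _

/-- A constituent of the permutation character lies over the principal character of the stabilizer. -/
theorem over_stabilizer (a : Ω) {χ : G → ℂ} (hχ : IsIrrCharacter G χ)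
    (h : classInner (fun g : G => (Nat.card (MulAction.fixedBy Ω g) : ℂ)) χ ≠ 0) :
    Over (MulAction.stabilizer G a).subtype χ (fun _ => 1) := by
  classical
  letI := Fintype.ofFinite ↥(MulAction.stabilizer G a)
  rw [over_iff]
  rw [Cfsg.Agent.S0190.result Ω a,
    OddOrderCharacters.IndRes.classInner_indFun_left _ _ (isIrr_isClassFunction hχ)] at h
  intro h0
  apply h
  rw [← classInner_conj_symm]
  change (starRingEnd ℂ) (classInner (χ ∘ (MulAction.stabilizer G a).subtype) (fun _ => 1)) = 0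
  rw [h0, map_zero]

end

section
variable {G : Type u} [Group G] [Finite G] {Y : Type v} [Group Y] [Finite Y]

theorem exists_invariant {H : Type w} [Group H] [Finite H] {V : Type*} [AddCommGroup V] [Module ℂ V]
    [FiniteDimensional ℂ V] (ρ : Representation ℂ G V) (f : H →* G) (h : Over f ρ.character (fun _ => 1)) :
    ∃ v : V, v ≠ 0 ∧ ∀ x : H, ρ (f x) v = v := by
  classical
  letI := Fintype.ofFinite H
  rw [over_iff] at h
  have h1 : ρ.character ∘ f = Representation.character (ρ.comp f) := rfl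
  rw [h1, Subdegree.classInner_one_eq_finrank] at h
  by_contra hcon
  push Not at hcon
  apply h
  have h2 : Representation.invariants (ρ.comp f) = ⊥ := by
    rw [eq_bot_iff]
    intro v hv
    rw [Representation.mem_invariants] at hv
    by_contra hv0
    obtain ⟨x, hx⟩ := hcon v hv0
    exact hx (hv x)
  rw [h2, finrank_bot, Nat.cast_zero]

/-- An irreducible character over the principal characters of a subgroup `H` and a normal subgroup `f(Y)` with
`G = f(Y) H` is principal. -/
theorem eq_one_of_over {χ : G → ℂ} (hχ : IsIrrCharacter G χ) (f : Y →* G) (hf : ∀ (g : G) (y : Y), ∃ y', f y' = g⁻¹ * f y * g)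
    (H : Subgroup G) (hH : ∀ g : G, ∃ y : Y, ∃ x ∈ H, g = f y * x) (h1 : Over f χ (fun _ => 1))
    (h2 : Over H.subtype χ (fun _ => 1)) : χ = fun _ => 1 := by
  obtain ⟨n, ρ, hρ, rfl⟩ := hχ
  obtain ⟨v, hv0, hv⟩ := exists_invariant ρ f h1
  obtain ⟨w, hw0, hw⟩ := exists_invariant ρ H.subtype h2
  -- the fixed points of `Y`
  let S0 : Submodule ℂ (Fin n → ℂ) :=
    { carrier := {v | ∀ y : Y, ρ (f y) v = v}
      add_mem' := fun {a b} ha hb y => by rw [map_add, ha y, hb y]
      zero_mem' := fun y => by rw [map_zero]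
      smul_mem' := fun c a ha y => by rw [map_smul, ha y] }
  let S : Subrepresentation ρ :=
    { toSubmodule := S0
      apply_mem_toSubmodule := by
        intro g a ha y
        obtain ⟨y', hy'⟩ := hf g y
        have e : f y * g = g * f y' := by rw [hy']; group
        change ρ (f y) (ρ g a) = ρ g a
        rw [← Module.End.mul_apply, ← map_mul, e, map_mul, Module.End.mul_apply, ha y'] }
  have hS : S = ⊤ := by
    rcases hρ.eq_bot_or_eq_top S with h | h
    · exfalso
      have h3 : v ∈ S := hv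
      rw [h] at h3
      exact hv0 h3
    · exact h
  have hwS : w ∈ S := by rw [hS]; exact Submodule.mem_top
  have hwG : ∀ g, ρ g w = w := by
    intro g
    obtain ⟨y, x, hx, rfl⟩ := hH g
    rw [map_mul, Module.End.mul_apply]
    have h3 : ρ x w = w := hw ⟨x, hx⟩
    rw [h3]
    exact hwS y
  exact Cfsg.Agent.Characters.FixedPointFree.character_eq_one_of_invariant ρ hρ w hwG hw0

theorem isIrr_one' {G : Type*} [Group G] : IsIrrCharacter G (fun _ => 1) := MultFree.isIrr_one

theorem over_one_one (f : Y →* G) : Over f (fun _ => 1) (fun _ => 1) := by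
  classical
  letI := Fintype.ofFinite Y
  rw [over_iff]
  have h1 : ((fun _ => 1 : G → ℂ) ∘ f) = (fun _ => 1 : Y → ℂ) := rfl
  rw [h1, classInner_irr_self isIrr_one']
  exact one_ne_zero

/-- **Constituents**: `f : Y → G` with normal range, `f(B) ≤ H`, `G = f(Y) H`; an irreducible character `χ ≠ 1` over the
principal character of `H` lies over an irreducible character `ξ ≠ 1` of `Y` over the principal character of `B`. -/
theorem exists_under_ne_one {χ : G → ℂ} (hχ : IsIrrCharacter G χ) (h1 : χ ≠ fun _ => 1) (f : Y →* G)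
    (hf : ∀ (g : G) (y : Y), ∃ y', f y' = g⁻¹ * f y * g)
    (H : Subgroup G) (hH : ∀ g : G, ∃ y : Y, ∃ x ∈ H, g = f y * x) (B : Subgroup Y) (hB : ∀ b ∈ B, f b ∈ H)
    (h2 : Over H.subtype χ (fun _ => 1)) :
    ∃ ξ : Y → ℂ, IsIrrCharacter Y ξ ∧ Over f χ ξ ∧ ξ ≠ (fun _ => 1) ∧ Over B.subtype ξ (fun _ => 1) := by
  let f' : B →* H := MonoidHom.mk' (fun b => ⟨f b, hB b b.2⟩) fun a b => Subtype.ext (map_mul f _ _)
  have h3 : Over (H.subtype.comp f') χ (fun _ => 1) :=
    (over_comp_iff H.subtype f' (isIrr_isCharacter hχ) isIrr_one').2 ⟨_, isIrr_one', h2, over_one_one f'⟩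
  have h4 : Over (f.comp B.subtype) χ (fun _ => 1) := h3
  obtain ⟨ξ, hξ, h5, h6⟩ := (over_comp_iff f B.subtype (isIrr_isCharacter hχ) isIrr_one').1 h4
  refine ⟨ξ, hξ, h5, ?_, h6⟩
  rintro rfl
  exact h1 (eq_one_of_over hχ f hf H hH h5 h2)

theorem sum_ne_zero_of_over (B : Subgroup Y) [Fintype B] {ξ : Y → ℂ} (h : Over B.subtype ξ (fun _ => 1)) :
    ∑ b : B, ξ b ≠ 0 := by
  intro h0
  rw [over_iff] at h
  apply h
  unfold classInner
  have h1 : ∑ g : B, (ξ ∘ B.subtype) g * (starRingEnd ℂ) ((fun _ => 1 : B → ℂ) g) = ∑ b : B, ξ b :=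
    Finset.sum_congr rfl fun b _ => by rw [map_one, mul_one]; rfl
  rw [h1, h0, mul_zero]

/-- The degree of a constituent along an injective homomorphism with normal range divides the degree. -/
theorem dvd_of_over (f : Y →* G) (hinj : Function.Injective f) (hf : ∀ (g : G) (y : Y), ∃ y', f y' = g⁻¹ * f y * g)
    {χ : G → ℂ} (hχ : IsIrrCharacter G χ) {ξ : Y → ℂ} (hξ : IsIrrCharacter Y ξ) (h : Over f χ ξ) :
    charDegree ξ ∣ charDegree χ := by
  have hn : f.range.Normal := ⟨fun n hn g => by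
    obtain ⟨y, rfl⟩ := hn
    obtain ⟨y', hy'⟩ := hf g⁻¹ y
    exact ⟨y', by rw [hy', inv_inv]⟩⟩
  let e : Y ≃* f.range := MonoidHom.ofInjective hinj
  have h1 : Over (f.range.subtype.comp e.toMonoidHom) χ ((ξ ∘ e.symm) ∘ e) := by
    have e1 : f.range.subtype.comp e.toMonoidHom = f := by ext y; rfl
    have e2 : (ξ ∘ e.symm) ∘ e = ξ := by
      funext y
      change ξ (e.symm (e y)) = ξ y
      rw [e.symm_apply_apply]
    rw [e1, e2]
    exact h
  rw [over_comp_equiv] at h1
  have h2 := (charDegree_dvd_of_over f.range hχ (isIrr_comp e.symm.toMonoidHom e.symm.surjective hξ) h1).1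
  have h3 : charDegree (ξ ∘ e.symm) = charDegree ξ := charDegree_comp_one e.symm.toMonoidHom ξ
  have h4 : (ξ ∘ e.symm.toMonoidHom) = ξ ∘ e.symm := rfl
  rwa [h4, h3] at h2

end

end Cfsg.Agent.H845.FD.Perm
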